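import Mathlib
import Cfsg.Agent.Lib.Element
import Cfsg.Agent.Coprime.Conj

set_option autoImplicit false

/-! Elements `x` with `N(⟨x⟩) = C(x)`. -/

namespace Cfsg.Agent.FGS75

open scoped Pointwise

variable {G : Type*} [Group G] [Finite G]

theorem exists_pow_two_of_forall_prime {x : G}
    (h : ∀ r : ℕ, r.Prime → r ∣ orderOf x → r = 2) : ∃ k, orderOf x = 2 ^ k :=
  ⟨_, Nat.eq_prime_pow_of_unique_prime_dvd (orderOf_pos x).ne' fun {r} hr hd => h r hr hd⟩

/-- An element of odd order normalizing a cyclic `2`-group centralizes it. -/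
theorem commute_of_odd_of_normalizes_two {x g : G} {k : ℕ} (hx : orderOf x = 2 ^ k)
    (hg : g ∈ Subgroup.normalizer ((Subgroup.zpowers x : Subgroup G) : Set G))
    (hodd : Odd (orderOf g)) : g * x = x * g := by
  set A := Subgroup.zpowers x
  let f := Subgroup.normalizerMonoidHom A
  have h1 : orderOf (f ⟨g, hg⟩) ∣ orderOf g := by
    rw [← Subgroup.orderOf_mk g hg]; exact orderOf_map_dvd f _
  have h2 : orderOf (f ⟨g, hg⟩) ∣ 2 ^ k := by
    refine (orderOf_dvd_natCard _).trans ?_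
    rw [IsCyclic.card_mulAut, Nat.card_zpowers, hx]
    rcases k with _ | k
    · simp
    · rw [Nat.totient_prime_pow Nat.prime_two (Nat.succ_pos k)]
      exact ⟨2, by rw [Nat.succ_sub_one, pow_succ]; ring⟩
  have h3 : orderOf (f ⟨g, hg⟩) = 1 := by
    obtain ⟨j, -, hj⟩ := (Nat.dvd_prime_pow Nat.prime_two).mp h2
    rcases j with _ | j
    · simpa using hj
    · exfalso
      have : 2 ∣ orderOf g := (dvd_pow_self 2 (Nat.succ_ne_zero j)).trans (hj ▸ h1)
      exact Nat.not_even_iff_odd.mpr hodd (even_iff_two_dvd.mpr this)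
  rw [orderOf_eq_one_iff] at h3
  have := congrArg Subtype.val (DFunLike.congr_fun h3 ⟨x, Subgroup.mem_zpowers x⟩)
  have e : g * x * g⁻¹ = x := by simpa [f] using this
  exact mul_inv_eq_iff_eq_mul.mp e

/-- A `π`-element of a quotient lifts to a `π`-element. -/
theorem exists_pi_preimage (π : Set ℕ) (N : Subgroup G) [N.Normal] {y : G ⧸ N}
    (hy : ∀ r : ℕ, r.Prime → r ∣ orderOf y → r ∈ π) :
    ∃ x : G, (x : G ⧸ N) = y ∧ ∀ r : ℕ, r.Prime → r ∣ orderOf x → r ∈ π := by
  obtain ⟨x₀, hx₀⟩ := QuotientGroup.mk'_surjective N y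
  obtain ⟨x, hx, hmin⟩ := WellFounded.has_min (InvImage.wf (fun x : G => orderOf x) wellFounded_lt)
    {x : G | (x : G ⧸ N) = y} ⟨x₀, hx₀⟩
  refine ⟨x, hx, fun r hr hd => by_contra fun hrπ => hmin (Element.pComplPart r x) ?_ ?_⟩
  · show QuotientGroup.mk' N (Element.pComplPart r x) = y
    rw [(Element.map_pPart hr (QuotientGroup.mk' N) x).2,
      show QuotientGroup.mk' N x = y from hx]
    exact (Element.pPart_eq_one hr (Nat.Coprime.symm ((Nat.Prime.coprime_iff_not_dvd hr).mpr
      fun h => hrπ (hy r hr h)))).2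
  · show orderOf (Element.pComplPart r x) < orderOf x
    have hd' : orderOf (Element.pComplPart r x) ∣ orderOf x :=
      orderOf_dvd_of_mem_zpowers (Element.pComplPart_mem_zpowers r x)
    refine lt_of_le_of_ne (Nat.le_of_dvd (orderOf_pos x) hd') fun e => ?_
    exact hr.ne_one ((Element.coprime_orderOf_pComplPart hr x).symm.eq_one_of_dvd (e ▸ hd))

/-- Normalizers of cyclic subgroups of coprime order lift modulo a normal subgroup. -/
theorem exists_lift_normalizes (N : Subgroup G) [N.Normal] {x g : G}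
    (hcop : (orderOf x).Coprime (Nat.card N))
    (hg : (g : G ⧸ N) ∈ Subgroup.normalizer
      ((Subgroup.zpowers (x : G ⧸ N) : Subgroup (G ⧸ N)) : Set (G ⧸ N))) :
    ∃ k ∈ N, k⁻¹ * g ∈ Subgroup.normalizer ((Subgroup.zpowers x : Subgroup G) : Set G) := by
  set A := Subgroup.zpowers x
  have hmap : A.map (QuotientGroup.mk' N) = Subgroup.zpowers (x : G ⧸ N) := MonoidHom.map_zpowers _ x
  have hAN : A ⊔ N = (Subgroup.zpowers (x : G ⧸ N)).comap (QuotientGroup.mk' N) := by
    rw [← hmap, Subgroup.comap_map_eq, QuotientGroup.ker_mk']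
  have hc : (MulAut.conj g • A).map (QuotientGroup.mk' N) = A.map (QuotientGroup.mk' N) := by
    rw [hmap]
    ext z
    have hn := Subgroup.mem_normalizer_iff.mp hg
    constructor
    · rintro ⟨w, hw, rfl⟩
      rw [SetLike.mem_coe, Coprime.mem_conj_smul] at hw
      have h1 : ((g⁻¹ * w * g : G) : G ⧸ N) ∈ Subgroup.zpowers (x : G ⧸ N) := by
        rw [← hmap]; exact ⟨_, hw, rfl⟩
      have := (hn _).mp h1
      simpa [mul_assoc] using this
    · intro hz
      have h1 : (g : G ⧸ N)⁻¹ * z * g ∈ A.map (QuotientGroup.mk' N) := by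
        rw [hmap]; refine (hn _).mpr ?_; simpa [mul_assoc] using hz
      obtain ⟨w, hw, hwz⟩ := h1
      refine ⟨g * w * g⁻¹, Coprime.mem_conj_smul.mpr (by simpa [mul_assoc] using hw), ?_⟩
      have hwz' : (w : G ⧸ N) = (g : G ⧸ N)⁻¹ * z * g := hwz
      show ((g * w * g⁻¹ : G) : G ⧸ N) = z
      rw [QuotientGroup.mk_mul, QuotientGroup.mk_mul, QuotientGroup.mk_inv, hwz']
      group
  have hB : MulAut.conj g • A ⊔ N = A ⊔ N := by
    have h1 := Subgroup.comap_map_eq (QuotientGroup.mk' N) (MulAut.conj g • A)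
    have h2 := Subgroup.comap_map_eq (QuotientGroup.mk' N) A
    rw [QuotientGroup.ker_mk'] at h1 h2
    rw [← h1, ← h2, hc]
  obtain ⟨k, hk, hkA⟩ := Coprime.complement_conj (A := A) (B := MulAut.conj g • A) (K := N)
    Subgroup.le_normalizer_of_normal
    (by rw [Nat.card_zpowers]; exact hcop)
    (by rw [show Nat.card ↥(MulAut.conj g • A) = Nat.card A from Nat.card_congr
      (Subgroup.equivSMul (MulAut.conj g) A).symm.toEquiv, Nat.card_zpowers]; exact hcop)
    hB (Or.inl inferInstance)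
  refine ⟨k, hk, Coprime.conj_smul_eq_self_iff.mp ?_⟩
  rw [map_mul, mul_smul, hkA, ← mul_smul, ← map_mul, inv_mul_cancel, map_one, one_smul]

end Cfsg.Agent.FGS75
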