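import Mathlib
import Cfsg.Agent.Invol.BaerSuzuki
import Cfsg.Agent.Cores.Basic
import Cfsg.Agent.FGS75.Irrational

set_option autoImplicit false

/-! If a Sylow 2-subgroup is not normal, a nontrivial element of odd order is inverted. -/

namespace Cfsg.Agent.FGS75

theorem exists_inverted_of_not_normal {G : Type*} [Group G] [Finite G] (P : Sylow 2 G)
    (hP : ¬ (P : Subgroup G).Normal) :
    ∃ g h : G, h ≠ 1 ∧ Odd (orderOf h) ∧ g * h * g⁻¹ = h⁻¹ := by
  classical
  haveI : Fact (Nat.Prime 2) := ⟨Nat.prime_two⟩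
  set N := Cfsg.pCore 2 G
  have hNp : IsPGroup 2 N := Cores.pCore_isPGroup
  have h2 : 2 ∣ Nat.card (G ⧸ N) := by
    by_contra hodd
    apply hP
    have : (P : Subgroup G) = N := (P.is_maximal'
      (Q := N) hNp (fun x hx => by
        have h1 : orderOf (x : G ⧸ N) ∣ Nat.card (G ⧸ N) := orderOf_dvd_natCard _
        obtain ⟨k, hk⟩ := P.isPGroup'.exists_card_eq
        have h2 : orderOf (x : G ⧸ N) ∣ 2 ^ k :=
          hk ▸ (orderOf_map_dvd (QuotientGroup.mk' N) x).trans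
            (Subgroup.orderOf_mk x hx ▸ orderOf_dvd_natCard _)
        exact (QuotientGroup.eq_one_iff x).mp (orderOf_eq_one_iff.mp (Nat.eq_one_of_dvd_coprimes
          ((Nat.prime_two.coprime_iff_not_dvd.mpr hodd).pow_left k) h2 h1)))).symm
    rw [this]; infer_instance
  obtain ⟨t, ht⟩ := exists_prime_orderOf_dvd_card' 2 h2
  obtain ⟨h, hh1, hhodd, hinv⟩ := Invol.exists_inverted_odd t ht (fun M hM hMp htM => by
    have hle : M ≤ Cfsg.pCore 2 (G ⧸ N) := Cores.le_pCore hM hMp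
    rw [Cores.pCore_quotient_pCore_eq_bot] at hle
    rw [Subgroup.mem_bot.mp (hle htM), orderOf_one] at ht
    omega)
  obtain ⟨t, rfl⟩ := QuotientGroup.mk'_surjective N t
  obtain ⟨h, rfl, hπ⟩ := exists_pi_preimage {r | r ≠ 2} N (y := h) (fun r _ hd hr2 => by
    subst hr2; exact Nat.not_even_iff_odd.mpr hhodd (even_iff_two_dvd.mpr hd))
  have hodd2 : ¬ 2 ∣ orderOf h := fun h' => hπ 2 Nat.prime_two h' rfl
  have hodd : Odd (orderOf h) := Nat.not_even_iff_odd.mp fun h' => hodd2 (even_iff_two_dvd.mp h')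
  have hcop : (orderOf h).Coprime (Nat.card N) := by
    obtain ⟨k, hk⟩ := hNp.exists_card_eq
    rw [hk]; exact ((Nat.prime_two.coprime_iff_not_dvd.mpr hodd2).symm).pow_right k
  have hinv' : QuotientGroup.mk' N (t * h * t⁻¹) = QuotientGroup.mk' N h⁻¹ := by
    rw [map_mul, map_mul, map_inv, map_inv]; exact hinv
  have htn : (t : G ⧸ N) ∈ Subgroup.normalizer
      ((Subgroup.zpowers (h : G ⧸ N) : Subgroup (G ⧸ N)) : Set (G ⧸ N)) := by
    rw [Subgroup.mem_normalizer_iff_map_conj_eq, MonoidHom.map_zpowers]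
    show Subgroup.zpowers ((t : G ⧸ N) * (h : G ⧸ N) * (t : G ⧸ N)⁻¹) = _
    rw [show (t : G ⧸ N) * (h : G ⧸ N) * (t : G ⧸ N)⁻¹ = (h : G ⧸ N)⁻¹ from hinv,
      Subgroup.zpowers_inv]
  obtain ⟨k, hk, hkn⟩ := exists_lift_normalizes N hcop htn
  set g := k⁻¹ * t
  have hg : QuotientGroup.mk' N g = QuotientGroup.mk' N t := by
    rw [map_mul, show QuotientGroup.mk' N k⁻¹ = 1 from (QuotientGroup.eq_one_iff _).mpr (inv_mem hk),
      one_mul]
  refine ⟨g, h, fun e => hh1 ?_, hodd, ?_⟩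
  · rw [e]; rfl
  have h1 : g * h * g⁻¹ * h ∈ Subgroup.zpowers h :=
    mul_mem ((Subgroup.mem_normalizer_iff.mp hkn h).mp (Subgroup.mem_zpowers h))
      (Subgroup.mem_zpowers h)
  have h3 : g * h * g⁻¹ * h ∈ N := by
    rw [← QuotientGroup.eq_one_iff]
    show QuotientGroup.mk' N (g * h * g⁻¹ * h) = 1
    rw [map_mul (QuotientGroup.mk' N) (g * h * g⁻¹) h, map_mul (QuotientGroup.mk' N) (g * h) g⁻¹,
      map_mul (QuotientGroup.mk' N) g h, map_inv, hg, ← map_inv, ← map_mul, ← map_mul, hinv',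
      map_inv, inv_mul_cancel]
  have := Nat.eq_one_of_dvd_coprimes hcop (orderOf_dvd_of_mem_zpowers h1)
    (Subgroup.orderOf_mk _ h3 ▸ orderOf_dvd_natCard _)
  exact eq_inv_of_mul_eq_one_left (orderOf_eq_one_iff.mp this)

theorem eq_one_of_inv_eq_self_of_odd {G : Type*} [Group G] {h : G} (he : h⁻¹ = h)
    (hodd : Odd (orderOf h)) : h = 1 := by
  have h2 : orderOf h ∣ 2 := orderOf_dvd_of_pow_eq_one (by
    rw [sq]; nth_rewrite 1 [← he]; exact inv_mul_cancel h)
  rcases (Nat.dvd_prime Nat.prime_two).mp h2 with h3 | h3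
  · exact orderOf_eq_one_iff.mp h3
  · rw [h3] at hodd; exact absurd hodd (by decide)

theorem mem_normalizer_zpowers_of_inverts {G : Type*} [Group G] {g h : G}
    (hg : g * h * g⁻¹ = h⁻¹) :
    g ∈ Subgroup.normalizer ((Subgroup.zpowers h : Subgroup G) : Set G) := by
  rw [Subgroup.mem_normalizer_iff_map_conj_eq, MonoidHom.map_zpowers]
  show Subgroup.zpowers (g * h * g⁻¹) = _
  rw [hg, Subgroup.zpowers_inv]

end Cfsg.Agent.FGS75
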