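import Mathlib
import Cfsg.Agent.Brauer.WeakOrth
import Cfsg.Agent.Block.Idempotent
import Cfsg.Agent.BlkChar.PModular
import Cfsg.Agent.Char.Burnside
import Cfsg.Agent.Char.Kernel
import Cfsg.Agent.Char.Linear
import Cfsg.Agent.Char.Virtual
import Cfsg.Agent.S0144
import Cfsg.Agent.Lib.Element
import Cfsg.Agent.Lib.ClassSize
import Cfsg.Agent.Cores.Fitting
import Cfsg.Agent.Coprime.Generation
import Cfsg.Agent.Lib.MinimalNormal

set_option autoImplicit false

/-! Kazarin's theorem: an element with a class of prime power size generates a solvable normal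
closure. The proof uses the principal block for an auxiliary prime. -/

namespace Cfsg.Agent.FGS75

open Cfsg
open scoped ComplexConjugate

theorem root_eq_one_of_memLocalIdeal {M : Ideal AlgInt} [M.IsPrime] {q : ℕ} (hM : IsPModular q M)
    {ζ : ℂ} {m : ℕ} (hζ : ζ ^ m = 1) (hm : ¬ q ∣ m) (h : MemLocalIdeal M (ζ - 1)) : ζ = 1 := by
  by_contra hne
  have hm0 : m ≠ 0 := fun h => hm (h ▸ dvd_zero q)
  have hint : IsIntegral ℤ ζ := IsIntegral.of_pow (Nat.pos_of_ne_zero hm0) (hζ ▸ isIntegral_one)
  have hsum : ∑ i ∈ Finset.range m, ζ ^ i = 0 := by rw [geom_sum_eq hne, hζ]; simp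
  have : MemLocalIdeal M (∑ i ∈ Finset.range m, (ζ ^ i - 1)) := by
    refine Block.memLocalIdeal_sum _ _ fun i _ => ?_
    rw [← geom_sum_mul]
    exact Block.memLocalIdeal_mul_left
      (Block.memLocalRing_of_isIntegral (IsIntegral.sum _ fun j _ => hint.pow j)) h
  rw [Finset.sum_sub_distrib, hsum] at this
  simp only [Finset.sum_const, Finset.card_range, nsmul_eq_mul, mul_one, zero_sub] at this
  have := Block.memLocalIdeal_neg this
  rw [neg_neg] at this
  exact hm ((Block.memLocalIdeal_natCast_iff hM m).mp this)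

theorem three_primes {N : Type*} [Group N] [Finite N] (hns : ¬ Group.IsSolvable N) (p r : ℕ) :
    ∃ q : ℕ, q.Prime ∧ q ∣ Nat.card N ∧ q ≠ p ∧ q ≠ r := by
  by_contra hc
  push Not at hc
  apply hns
  have h : ∀ s : ℕ, s.Prime → s ∣ Nat.card N → s = p ∨ s = r := fun s hs hd =>
    or_iff_not_imp_left.mpr (hc s hs hd)
  by_cases hp : p.Prime
  · by_cases hr : r.Prime
    · exact Char.solvable_of_card_eq_pow_mul_pow p r hp hr _ rfl h
    · exact Char.solvable_of_card_eq_pow_mul_pow p p hp hp _ rfl fun s hs hd =>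
        (h s hs hd).elim Or.inl fun e => absurd (e ▸ hs) hr
  · by_cases hr : r.Prime
    · exact Char.solvable_of_card_eq_pow_mul_pow r r hr hr _ rfl fun s hs hd =>
        (h s hs hd).elim (fun e => absurd (e ▸ hs) hp) Or.inl
    · have : Nat.card N = 1 := by
        by_contra h1
        obtain ⟨s, hs, hd⟩ := Nat.exists_prime_and_dvd h1
        rcases h s hs hd with e | e
        · exact hp (e ▸ hs)
        · exact hr (e ▸ hs)
      haveI := (Nat.card_eq_one_iff_unique.mp this).1
      infer_instance

/-- The character-theoretic step. -/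
theorem exists_commutator_kernel {H : Type*} [Group H] [Finite H] (N : Subgroup H) [N.Normal]
    (y : H) (hgen : N ⊔ Subgroup.zpowers y = ⊤) (hns : ¬ Group.IsSolvable N)
    {r j : ℕ} (hr : r.Prime) (hy : orderOf y = r ^ j)
    {p k : ℕ} (hp : p.Prime) (hidx : (Subgroup.centralizer ({y} : Set H)).index = p ^ k) :
    ∃ K : Subgroup H, K.Normal ∧ K < N ∧ ∀ n ∈ N, y * n * y⁻¹ * n⁻¹ ∈ K := by
  classical
  haveI := Fintype.ofFinite H
  obtain ⟨q, hq, hqN, hqp, hqr⟩ := three_primes hns p r
  haveI := Fact.mk hq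
  obtain ⟨M, hM⟩ := BlkChar.exists_isPModular q hq
  haveI : M.IsPrime := Block.isPrime_of_isPModular hM
  obtain ⟨⟨z, hzN⟩, hz⟩ := exists_prime_orderOf_dvd_card' q hqN
  rw [Subgroup.orderOf_mk] at hz
  set B := principalBlock M H
  have hBblock : IsPBlock M B := ⟨Char.trivialIrr H, rfl⟩
  have horth := Brauer.weakOrth_of_integral hM B (fun g => Block.blockCoeff_memLocalRing hBblock g)
    (x := (1 : H)) (y := z) (by rw [orderOf_one]; exact hq.not_dvd_one) (hz ▸ dvd_rfl)
  have hmemB : ∀ χ : IrrCharacter H, χ ∈ B → ∀ g : H,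
      MemLocalIdeal M (centralChar (fun _ : H => (1 : ℂ)) g - centralChar (χ : H → ℂ) g) :=
    fun χ hχ g => hχ g
  have hpk : ¬ q ∣ p ^ k := fun h =>
    hqp ((Nat.prime_dvd_prime_iff_eq hq hp).mp (hq.dvd_of_dvd_pow h))
  have hry : ¬ q ∣ orderOf y := fun h =>
    hqr ((Nat.prime_dvd_prime_iff_eq hq hr).mp (hq.dvd_of_dvd_pow (hy ▸ h)))
  choose d hd hd1 using fun χ : IrrCharacter H => Char.irr_one_pos χ.2
  -- the only linear character of `H/N` in the block is trivial
  have hlin : ∀ χ : IrrCharacter H, χ ∈ B → (∀ n ∈ N, (χ : H → ℂ) n = (χ : H → ℂ) 1) →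
      χ = Char.trivialIrr H := by
    intro χ hχ hN
    obtain ⟨ψ, hψ, hψχ⟩ := Char.irr_exists_descend χ.2 N hN
    have hgen' : ∀ u : H ⧸ N, u ∈ Subgroup.zpowers (y : H ⧸ N) := by
      intro u
      obtain ⟨h, rfl⟩ := QuotientGroup.mk'_surjective N u
      have : h ∈ N ⊔ Subgroup.zpowers y := hgen ▸ Subgroup.mem_top h
      obtain ⟨a, ha, b, hb, rfl⟩ := Subgroup.mem_sup_of_normal_left.mp this
      obtain ⟨i, rfl⟩ := hb
      refine ⟨i, ?_⟩
      show (y : H ⧸ N) ^ i = (QuotientGroup.mk' N) (a * y ^ i)
      rw [map_mul, show QuotientGroup.mk' N a = 1 from (QuotientGroup.eq_one_iff a).mpr ha, one_mul,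
        map_zpow]
      rfl
    have hcomm : ∀ a b : H ⧸ N, a * b = b * a := by
      intro a b
      obtain ⟨i, rfl⟩ := hgen' a
      obtain ⟨l, rfl⟩ := hgen' b
      show _ ^ i * _ ^ l = _ ^ l * _ ^ i
      rw [← zpow_add, ← zpow_add, add_comm]
    obtain ⟨f, hf⟩ := Char.irr_exists_monoidHom_of_comm hcomm hψ
    have hχ1 : (χ : H → ℂ) 1 = 1 := by
      rw [hψχ, hf, QuotientGroup.mk_one, map_one, Units.val_one]
    have hζ : ((f (y : H ⧸ N) : ℂ)) ^ orderOf y = 1 := by
      rw [← Units.val_pow_eq_pow_val, ← map_pow, ← QuotientGroup.mk_pow, pow_orderOf_eq_one,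
        QuotientGroup.mk_one, map_one, Units.val_one]
    have hmem := hmemB χ hχ y
    simp only [centralChar, hidx, hχ1, hψχ y, hf, div_one, mul_one] at hmem
    have h1 : MemLocalIdeal M ((f (y : H ⧸ N) : ℂ) - 1) := by
      have h2 := Block.memLocalIdeal_mul_left (Block.memLocalRing_natCast_inv hM hpk)
        (Block.memLocalIdeal_neg hmem)
      have hne : (((p ^ k : ℕ)) : ℂ) ≠ 0 := Nat.cast_ne_zero.mpr (pow_ne_zero k hp.ne_zero)
      rwa [neg_sub, ← mul_sub_one, ← mul_assoc, inv_mul_cancel₀ hne, one_mul] at h2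
    have hf1 : f (y : H ⧸ N) = 1 := Units.ext (root_eq_one_of_memLocalIdeal hM hζ hry h1)
    refine Subtype.ext (funext fun g => ?_)
    rw [hψχ, hf]
    obtain ⟨i, hi⟩ := hgen' (g : H ⧸ N)
    have hi' : (g : H ⧸ N) = (y : H ⧸ N) ^ i := hi.symm
    rw [hi', map_zpow, hf1, one_zpow, Units.val_one]
    rfl
  -- a useful character
  have htriv : (Char.trivialIrr H) ∈ B := fun g => by
    show MemLocalIdeal M (centralChar (fun _ : H => (1 : ℂ)) g - centralChar (fun _ : H => (1 : ℂ)) g)
    rw [sub_self]; exact Block.memLocalIdeal_zero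
  obtain ⟨χ, hχB, hχp, hχN⟩ : ∃ χ : IrrCharacter H, χ ∈ B ∧ ¬ p ∣ d χ ∧
      ∃ n ∈ N, (χ : H → ℂ) n ≠ (χ : H → ℂ) 1 := by
    by_contra hc
    push Not at hc
    rw [finsum_mem_eq_finite_toFinset_sum _ (Set.toFinite B),
      ← Finset.add_sum_erase _ _ (Set.Finite.mem_toFinset _ |>.mpr htriv)] at horth
    have hone : ((Char.trivialIrr H : IrrCharacter H) : H → ℂ) = fun _ => (1 : ℂ) := rfl
    rw [hone, map_one, mul_one] at horth
    choose e he using fun (χ : IrrCharacter H) (hχ : χ ∈ (Set.toFinite B).toFinset.erase (Char.trivialIrr H)) => (by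
      rw [Finset.mem_erase, Set.Finite.mem_toFinset] at hχ
      by_contra hnd
      exact hχ.1 (hlin χ hχ.2 (hc χ hχ.2 hnd)) : p ∣ d χ)
    let S : ℂ := ∑ χ ∈ ((Set.toFinite B).toFinset.erase (Char.trivialIrr H)).attach,
      (e χ.1 χ.2 : ℂ) * conj ((χ.1 : H → ℂ) z)
    have hS : (1 : ℂ) + p * S = 0 := by
      rw [← horth]
      congr 1
      rw [Finset.mul_sum,
        ← Finset.sum_attach ((Set.toFinite B).toFinset.erase (Char.trivialIrr H))]
      refine Finset.sum_congr rfl fun χ _ => ?_
      rw [hd1, he χ.1 χ.2, Nat.cast_mul, mul_assoc]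
    have hSint : IsIntegral ℤ S := IsIntegral.sum _ fun χ _ => by
      refine IsIntegral.mul (isIntegral_algebraMap (R := ℤ) (x := ((e χ.1 χ.2 : ℕ) : ℤ)) |> fun h => by simpa using h) ?_
      rw [← Char.irr_inv χ.1.2]
      exact Char.isCharacter_isIntegral (Char.isCharacter_of_irr χ.1.2) _
    have hpS : S = (((-1 : ℚ) / p : ℚ) : ℂ) := by
      have : (p : ℂ) ≠ 0 := Nat.cast_ne_zero.mpr hp.ne_zero
      push_cast
      field_simp
      linear_combination hS
    rw [hpS] at hSint
    obtain ⟨w, hw⟩ := Char.exists_int_of_isIntegral_rat hSint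
    have : (w : ℚ) * p = -1 := by
      rw [← hw, div_mul_cancel₀ _ (Nat.cast_ne_zero.mpr hp.ne_zero)]
    have h' : w * (p : ℤ) = -1 := by exact_mod_cast this
    have h'' := congrArg Int.natAbs h'
    rw [Int.natAbs_mul] at h''
    simp at h''
    exact hp.ne_one h''.2
  -- `y` is scalar in this character
  have hne : (χ : H → ℂ) y ≠ 0 := by
    intro h0
    have h := hmemB χ hχB y
    simp only [centralChar, hidx, h0, mul_zero, zero_div, sub_zero, mul_one, div_one] at h
    exact hpk ((Block.memLocalIdeal_natCast_iff hM _).mp h)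
  obtain ⟨n, ρ, hρ, hρχ⟩ := χ.2
  haveI := hρ
  have hdeg : (Module.finrank ℂ (Fin n → ℂ) : ℂ) = (d χ : ℂ) := by
    rw [← ρ.char_one, hρχ, hd1]
  have hnorm : ‖(χ : H → ℂ) y‖ = ((χ : H → ℂ) 1).re := by
    rcases Char.character_eq_zero_or_norm_eq ρ y (by
      rw [hidx, show Module.finrank ℂ (Fin n → ℂ) = d χ by exact_mod_cast hdeg]
      exact ((hp.coprime_iff_not_dvd.mpr hχp).symm).pow_right k) with h | h
    · exact absurd (hρχ ▸ h) hne
    · rw [← hρχ, h, ρ.char_one, Complex.natCast_re]
  obtain ⟨ω, -, hω⟩ := Char.isCharacter_mul_of_norm_eq (Char.isCharacter_of_irr χ.2) hnorm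
  obtain ⟨K, hK, hKmem⟩ := Char.isCharacter_exists_kernel (Char.isCharacter_of_irr χ.2)
  refine ⟨N ⊓ K, inferInstance, lt_of_le_of_ne inf_le_left fun e => ?_, fun a ha => ⟨?_, ?_⟩⟩
  · obtain ⟨a, ha, hne'⟩ := hχN
    exact hne' ((hKmem a).mp ((e.ge ha).2))
  · exact Subgroup.mul_mem _ ((inferInstance : N.Normal).conj_mem a ha y) (Subgroup.inv_mem _ ha)
  · refine (hKmem _).mpr ?_
    calc (χ : H → ℂ) (y * a * y⁻¹ * a⁻¹) = (χ : H → ℂ) (y * (a * y⁻¹ * a⁻¹)) := by simp only [mul_assoc]
      _ = ω * (χ : H → ℂ) (a * y⁻¹ * a⁻¹) := (hω _).1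
      _ = ω * (χ : H → ℂ) y⁻¹ := by rw [Char.irr_isClassFunction χ.2 y⁻¹ a]
      _ = (χ : H → ℂ) (y * y⁻¹) := (hω _).1.symm
      _ = (χ : H → ℂ) 1 := by rw [mul_inv_cancel]

/-- If `N` has no solvable normal subgroup and `y` has prime power class size over `N`,
then `y` centralizes `N`. -/
theorem le_centralizer_of_relIndex_prime_pow (n : ℕ) : ∀ {G : Type*} [Group G] [Finite G]
    (N : Subgroup G), Nat.card N ≤ n →
    (∀ A : Subgroup G, A ≤ N → N ≤ Subgroup.normalizer (A : Set G) → Group.IsSolvable A → A = ⊥) →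
    ∀ (y : G), y ∈ Subgroup.normalizer (N : Set G) →
    ∀ {r j : ℕ}, r.Prime → orderOf y = r ^ j →
    ∀ {p k : ℕ}, p.Prime → (Subgroup.centralizer ({y} : Set G)).relIndex N = p ^ k →
    N ≤ Subgroup.centralizer ({y} : Set G) := by
  induction n with
  | zero => intro G _ _ N hn; exact absurd hn (by have := Nat.card_pos (α := N); omega)
  | succ n ih =>
    intro G _ _ N hn hNs y hyN r j hr hy p k hp hidx
    rcases eq_or_ne N ⊥ with rfl | hne
    · exact bot_le
    have hns : ¬ Group.IsSolvable N := fun h => hne (hNs N le_rfl Subgroup.le_normalizer h)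
    set U := N ⊔ Subgroup.zpowers y
    have hUN : U ≤ Subgroup.normalizer (N : Set G) :=
      sup_le Subgroup.le_normalizer (Subgroup.zpowers_le.mpr hyN)
    have hyU : y ∈ U := Subgroup.mem_sup_right (Subgroup.mem_zpowers y)
    let N' := N.subgroupOf U
    haveI : N'.Normal := Subgroup.normal_subgroupOf_of_le_normalizer hUN
    have hgen : N' ⊔ Subgroup.zpowers (⟨y, hyU⟩ : U) = ⊤ := by
      apply Subgroup.map_injective U.subtype_injective
      rw [Subgroup.map_sup, MonoidHom.map_zpowers, ← MonoidHom.range_eq_map, Subgroup.range_subtype,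
        Subgroup.subgroupOf_map_subtype, inf_eq_left.mpr (show N ≤ U from le_sup_left)]
      rfl
    let e : N' ≃* N := Subgroup.subgroupOfEquivOfLe le_sup_left
    have hidx' : ∃ k', (Subgroup.centralizer ({(⟨y, hyU⟩ : U)} : Set U)).index = p ^ k' := by
      set C := Subgroup.centralizer ({(⟨y, hyU⟩ : U)} : Set U)
      have h1 : (⊤ : Subgroup U) ≤ N' ⊔ C := hgen ▸ sup_le_sup_left (Subgroup.zpowers_le.mpr
        (Subgroup.mem_centralizer_singleton_iff.mpr rfl)) _
      have h2 : C.index ≤ C.relIndex N' := by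
        refine Nat.card_le_card_of_surjective (α := N' ⧸ C.subgroupOf N') (β := U ⧸ C)
          (Quotient.map' (fun a => (a : U)) (fun a b hab => by
            rw [QuotientGroup.leftRel_apply] at hab ⊢; exact hab)) ?_
        intro u
        obtain ⟨u, rfl⟩ := QuotientGroup.mk_surjective u
        obtain ⟨a, ha, c, hc, rfl⟩ := Subgroup.mem_sup_of_normal_left.mp (h1 (Subgroup.mem_top u))
        refine ⟨(QuotientGroup.mk (⟨a, ha⟩ : N') : N' ⧸ C.subgroupOf N'), ?_⟩
        show ((a : U) : U ⧸ C) = ((a * c : U) : U ⧸ C)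
        rw [QuotientGroup.eq, inv_mul_cancel_left]
        exact hc
      have h3 : C.relIndex N' = (Subgroup.centralizer ({y} : Set G)).relIndex N := by
        rw [show C = (Subgroup.centralizer ({y} : Set G)).subgroupOf U from
          ClassSize.centralizer_subgroupOf U ⟨y, hyU⟩, Subgroup.relIndex_subgroupOf le_sup_left]
      have h4 : C.relIndex N' ∣ C.index := ClassSize.relIndex_dvd_index_of_normal_left N' C
      have h5 := Nat.le_antisymm (Nat.le_of_dvd (Nat.pos_of_ne_zero Subgroup.index_ne_zero_of_finite) h4) h2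
      exact ⟨k, by rw [← hidx, ← h3, h5]⟩
    obtain ⟨k', hk'⟩ := hidx'
    haveI : ¬ Group.IsSolvable N' := fun h => hns (Group.isSolvable_of_surjective (f := e.toMonoidHom) e.surjective)
    obtain ⟨K', hK', hlt, hcomm⟩ := exists_commutator_kernel N' ⟨y, hyU⟩ hgen this hr
      (by rw [Subgroup.orderOf_mk, hy]) hp hk'
    haveI := hK'
    set K := K'.map U.subtype
    have hKN : K ≤ N := by
      rintro _ ⟨a, ha, rfl⟩; exact hlt.le ha
    have hUK : U ≤ Subgroup.normalizer (K : Set G) := by
      intro u hu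
      have : K'.map U.subtype = K := rfl
      have h := Subgroup.le_normalizer_map (H := K') U.subtype
        (⟨⟨u, hu⟩, by rw [Subgroup.normalizer_eq_top]; trivial, rfl⟩ :
          u ∈ (Subgroup.normalizer (K' : Set U)).map U.subtype)
      exact h
    have hKlt : Nat.card K ≤ n := by
      have h1 : Nat.card K = Nat.card K' := Subgroup.card_map_of_injective U.subtype_injective
      have h2 : Nat.card N' = Nat.card N := Nat.card_congr e.toEquiv
      have h3 : Nat.card K' < Nat.card N' := by
        refine lt_of_le_of_ne (Subgroup.card_le_of_le hlt.le) fun e' => hlt.ne ?_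
        exact Subgroup.eq_of_le_of_card_ge hlt.le e'.ge
      omega
    have hKs : ∀ A : Subgroup G, A ≤ K → K ≤ Subgroup.normalizer (A : Set G) →
        Group.IsSolvable A → A = ⊥ := by
      -- the solvable radical of `K` is normal in `N`
      intro A hAK hKA hA
      let A' := A.subgroupOf K
      haveI : A'.Normal := Subgroup.normal_subgroupOf_of_le_normalizer hKA
      haveI : Group.IsSolvable A' :=
        Group.isSolvable_of_surjective (f := (Subgroup.subgroupOfEquivOfLe hAK).symm.toMonoidHom)
          (Subgroup.subgroupOfEquivOfLe hAK).symm.surjective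
      by_contra hAne
      have hA'ne : A' ≠ ⊥ := fun h => hAne (le_bot_iff.mp fun a ha => by
        have : (⟨a, hAK ha⟩ : K) ∈ A' := ha
        rw [h, Subgroup.mem_bot] at this
        exact congrArg Subtype.val this)
      haveI : Nontrivial A' := (Subgroup.nontrivial_iff_ne_bot A').mpr hA'ne
      have hF : Cfsg.fittingSubgroup A' ≠ ⊥ := Cores.fittingSubgroup_ne_bot
      have hle := Cores.map_subtype_fittingSubgroup_le (N := A')
      have hFK : Cfsg.fittingSubgroup K ≠ ⊥ := fun h => hF (by
        rw [h, le_bot_iff, Subgroup.map_eq_bot_iff_of_injective _ A'.subtype_injective] at hle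
        exact hle)
      apply hFK
      have hchar : N ≤ Subgroup.normalizer ((Cfsg.fittingSubgroup K).map K.subtype : Set G) :=
        ((le_sup_left : N ≤ U).trans hUK).trans
          (Coprime.normalizer_le_normalizer_map_characteristic K (Cfsg.fittingSubgroup K))
      haveI : Group.IsNilpotent (Cfsg.fittingSubgroup K) := Cores.fittingSubgroup_isNilpotent
      have := hNs _ ((Subgroup.map_subtype_le _).trans hKN) hchar
        (Group.isSolvable_of_surjective
          (f := (Subgroup.equivMapOfInjective (Cfsg.fittingSubgroup K) K.subtype K.subtype_injective).toMonoidHom)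
          (MulEquiv.surjective _))
      exact (Subgroup.map_eq_bot_iff_of_injective _ K.subtype_injective).mp this
    have hKidx : ∃ k₁, (Subgroup.centralizer ({y} : Set G)).relIndex K = p ^ k₁ := by
      haveI : (K.subgroupOf N).Normal :=
        Subgroup.normal_subgroupOf_of_le_normalizer ((le_sup_left : N ≤ U).trans hUK)
      have h := ClassSize.relIndex_dvd_index_of_normal_left (K.subgroupOf N)
        ((Subgroup.centralizer ({y} : Set G)).subgroupOf N)
      rw [Subgroup.relIndex_subgroupOf hKN] at h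
      rw [show ((Subgroup.centralizer ({y} : Set G)).subgroupOf N).index =
        (Subgroup.centralizer ({y} : Set G)).relIndex N from rfl, hidx] at h
      obtain ⟨i, -, hi⟩ := (Nat.dvd_prime_pow hp).mp h
      exact ⟨i, hi⟩
    obtain ⟨k₁, hk₁⟩ := hKidx
    have hyK := ih K hKlt hKs y (hUK hyU) hr hy hp hk₁
    intro a ha
    have haU : a ∈ U := Subgroup.mem_sup_left ha
    have hc : y * a * y⁻¹ * a⁻¹ ∈ K :=
      ⟨_, hcomm ⟨a, haU⟩ ha, rfl⟩
    have hcen : ∀ b ∈ K, (y * a * y⁻¹ * a⁻¹) * b = b * (y * a * y⁻¹ * a⁻¹) := by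
      intro b hb
      have hb' : a⁻¹ * b * a ∈ K := by
        have := (Subgroup.mem_normalizer_iff.mp (hUK (inv_mem haU)) b).mp hb
        simpa using this
      have e1 : b * y = y * b := Subgroup.mem_centralizer_singleton_iff.mp (hyK hb)
      have e2 : (a⁻¹ * b * a) * y = y * (a⁻¹ * b * a) :=
        Subgroup.mem_centralizer_singleton_iff.mp (hyK hb')
      have e3 : y⁻¹ * (a⁻¹ * b * a) = (a⁻¹ * b * a) * y⁻¹ :=
        ((show Commute y (a⁻¹ * b * a) from e2.symm).inv_left).eq
      calc (y * a * y⁻¹ * a⁻¹) * b = y * a * (y⁻¹ * (a⁻¹ * b * a)) * a⁻¹ := by group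
        _ = y * b * a * y⁻¹ * a⁻¹ := by rw [e3]; group
        _ = b * (y * a * y⁻¹ * a⁻¹) := by rw [← e1]; group
    have hone : y * a * y⁻¹ * a⁻¹ = 1 := by
      have hZ := hKs ((Subgroup.center K).map K.subtype) (Subgroup.map_subtype_le _)
        ((Subgroup.le_normalizer).trans (Coprime.normalizer_le_normalizer_map_characteristic K _))
        (Group.isSolvable_of_comm (G := ((Subgroup.center K).map K.subtype : Subgroup G)) fun u v => by
          obtain ⟨_, u', hu', rfl⟩ := u
          obtain ⟨_, v', hv', rfl⟩ := v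
          exact Subtype.ext (congrArg (fun z : K => (z : G)) (Subgroup.mem_center_iff.mp hv' u')))
      have : y * a * y⁻¹ * a⁻¹ ∈ (Subgroup.center K).map K.subtype :=
        ⟨⟨_, hc⟩, Subgroup.mem_center_iff.mpr fun b => Subtype.ext (hcen b b.2).symm, rfl⟩
      rwa [hZ, Subgroup.mem_bot] at this
    rw [Subgroup.mem_centralizer_singleton_iff]
    calc a * y = (y * a * y⁻¹ * a⁻¹)⁻¹ * (y * a) := by group
      _ = y * a := by rw [hone, inv_one, one_mul]

/-- Kazarin's theorem. -/
theorem kazarin (n : ℕ) : ∀ {G : Type*} [Group G] [Finite G], Nat.card G ≤ n →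
    ∀ (x : G) {p k : ℕ}, p.Prime → (Subgroup.centralizer ({x} : Set G)).index = p ^ k →
    Group.IsSolvable (Subgroup.normalClosure ({x} : Set G)) := by
  induction n with
  | zero => intro G _ _ hn; exact absurd hn (by have := Nat.card_pos (α := G); omega)
  | succ n ih =>
    intro G _ _ hn x p k hp hidx
    set L := Subgroup.normalClosure ({x} : Set G)
    -- reduction to a quotient
    have hquot : ∀ (N : Subgroup G) [N.Normal], N ≠ ⊥ →
        Group.IsSolvable (L.map (QuotientGroup.mk' N)) := by
      intro N hN hne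
      have hlt : Nat.card (G ⧸ N) ≤ n := by
        have h1 := Subgroup.card_eq_card_quotient_mul_card_subgroup N
        have h2 : 1 < Nat.card N := Finite.one_lt_card_iff_nontrivial.mpr
          ((Subgroup.nontrivial_iff_ne_bot N).mpr hne)
        have h3 : Nat.card (G ⧸ N) * 2 ≤ Nat.card G := h1 ▸ Nat.mul_le_mul_left _ h2
        have := Nat.card_pos (α := G ⧸ N)
        omega
      obtain ⟨i, -, hi⟩ := (Nat.dvd_prime_pow hp).mp
        (hidx ▸ ClassSize.index_centralizer_map_dvd _ (QuotientGroup.mk'_surjective N) x)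
      rw [Subgroup.map_normalClosure _ _ (QuotientGroup.mk'_surjective N), Set.image_singleton]
      exact ih hlt _ hp hi
    rcases subsingleton_or_nontrivial G with hs | hnt
    · infer_instance
    by_cases hA : ∃ A : Subgroup G, A.Normal ∧ A ≠ ⊥ ∧ Group.IsSolvable A
    · obtain ⟨A, hAn, hAne, hAs⟩ := hA
      haveI := hAn
      have hker := QuotientGroup.ker_mk' A
      haveI := hquot A hAne
      generalize hf : QuotientGroup.mk' A = f at hker this
      haveI := hAs
      haveI : Group.IsSolvable (A.subgroupOf L) :=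
        Group.isSolvable_of_isSolvable_injective (f := (Subgroup.inclusion (inf_le_left : A ⊓ L ≤ A)).comp
          (MonoidHom.mk' (fun a : A.subgroupOf L => (⟨a.1.1, a.2, a.1.2⟩ : ↥(A ⊓ L))) (fun _ _ => rfl)))
          (fun a b h => Subtype.ext (Subtype.ext (congrArg (fun z : A => (z : G)) h)))
      refine Group.isSolvable_of_ker_le_range (A.subgroupOf L).subtype (f.subgroupMap L) ?_
      rw [Subgroup.range_subtype]
      intro u hu
      rw [MonoidHom.mem_ker] at hu
      show (u : G) ∈ A
      rw [← hker, MonoidHom.mem_ker]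
      exact congrArg Subtype.val hu
    · push Not at hA
      obtain ⟨N, hNn, hNne, hNmin⟩ := MinNormal.exists_minimal_normal (G := G)
      haveI := hNn
      have hNs : ∀ A : Subgroup G, A ≤ N → N ≤ Subgroup.normalizer (A : Set G) →
          Group.IsSolvable A → A = ⊥ := by
        intro A hAN hNA hAs
        let A' := A.subgroupOf N
        haveI : A'.Normal := Subgroup.normal_subgroupOf_of_le_normalizer hNA
        haveI : Group.IsSolvable A' :=
          Group.isSolvable_of_surjective (f := (Subgroup.subgroupOfEquivOfLe hAN).symm.toMonoidHom)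
            (Subgroup.subgroupOfEquivOfLe hAN).symm.surjective
        by_contra hAne
        have hA'ne : A' ≠ ⊥ := fun h => hAne (le_bot_iff.mp fun a ha => by
          have : (⟨a, hAN ha⟩ : N) ∈ A' := ha
          rw [h, Subgroup.mem_bot] at this
          exact congrArg Subtype.val this)
        haveI : Nontrivial A' := (Subgroup.nontrivial_iff_ne_bot A').mpr hA'ne
        have hF : Cfsg.fittingSubgroup A' ≠ ⊥ := Cores.fittingSubgroup_ne_bot
        have hle := Cores.map_subtype_fittingSubgroup_le (N := A')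
        have hle2 := Cores.map_subtype_fittingSubgroup_le (N := N)
        have hFG : Cfsg.fittingSubgroup G = ⊥ := by
          by_contra h
          haveI : Group.IsNilpotent (Cfsg.fittingSubgroup G) := Cores.fittingSubgroup_isNilpotent
          exact hA _ inferInstance h inferInstance
        rw [hFG, le_bot_iff, Subgroup.map_eq_bot_iff_of_injective _ N.subtype_injective] at hle2
        rw [hle2, le_bot_iff, Subgroup.map_eq_bot_iff_of_injective _ A'.subtype_injective] at hle
        exact hF hle
      have hxN : ∀ a ∈ N, a * x = x * a := by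
        -- all prime power parts of `x` centralize `N`
        have hpart : ∀ y ∈ Subgroup.zpowers x, (∃ r j : ℕ, r.Prime ∧ orderOf y = r ^ j) →
            N ≤ Subgroup.centralizer ({y} : Set G) := by
          rintro y hy ⟨r, j, hr, hrj⟩
          obtain ⟨i, -, hi⟩ := (Nat.dvd_prime_pow hp).mp (show _ ∣ p ^ k from
            hidx ▸ ((ClassSize.relIndex_dvd_index_of_normal_left N _).trans
              (ClassSize.index_centralizer_dvd_of_mem_zpowers hy)))
          exact le_centralizer_of_relIndex_prime_pow (Nat.card N) N le_rfl hNs y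
            (by rw [Subgroup.normalizer_eq_top]; trivial) hr hrj hp hi
        suffices ∀ u, u ∈ Subgroup.zpowers x → ∀ a ∈ N, a * u = u * a from this x (Subgroup.mem_zpowers x)
        intro u
        induction hn' : orderOf u using Nat.strong_induction_on generalizing u with
        | _ m ihm =>
          subst hn'
          intro hu a ha
          by_cases h1 : u = 1
          · simp [h1]
          obtain ⟨r, hr, hrd⟩ := Nat.exists_prime_and_dvd (orderOf_eq_one_iff.not.mpr h1)
          have ha1 := Subgroup.mem_centralizer_singleton_iff.mp (hpart (Element.pPart r u)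
            (Subgroup.zpowers_le.mpr hu (Element.pPart_mem_zpowers r u))
            ⟨r, _, hr, (Element.orderOf_pPart hr u (orderOf_pos u).ne').1⟩ ha)
          have hd := orderOf_dvd_of_mem_zpowers (Element.pComplPart_mem_zpowers r u)
          have ha2 := ihm _ (lt_of_le_of_ne (Nat.le_of_dvd (orderOf_pos u) hd) fun e =>
            hr.ne_one ((Element.coprime_orderOf_pComplPart hr u).symm.eq_one_of_dvd (e ▸ hrd)))
            (Element.pComplPart r u) rfl
            (Subgroup.zpowers_le.mpr hu (Element.pComplPart_mem_zpowers r u)) a ha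
          rw [← Element.pPart_mul_pComplPart r u]
          exact (Commute.mul_right (show Commute a _ from ha1) (show Commute a _ from ha2)).eq
      have hker := QuotientGroup.ker_mk' N
      haveI := hquot N hNne
      generalize hf : QuotientGroup.mk' N = f at hker this
      have hLC : L ≤ Subgroup.centralizer (N : Set G) :=
        Subgroup.normalClosure_le_normal (Set.singleton_subset_iff.mpr
          (Subgroup.mem_centralizer_iff.mpr hxN))
      refine Group.isSolvable_of_isSolvable_injective (f := f.subgroupMap L) fun a b h => ?_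
      have h' : f (a : G) = f (b : G) := congrArg Subtype.val h
      have hmem : (a : G)⁻¹ * b ∈ N := by
        rw [← hker, MonoidHom.mem_ker, map_mul, map_inv, h', inv_mul_cancel]
      have hZ : Subgroup.centralizer (N : Set G) ⊓ N = ⊥ := by
        refine hNs _ inf_le_right ?_ (Group.isSolvable_of_comm fun u v => Subtype.ext
          (Subgroup.mem_centralizer_iff.mp u.2.1 v v.2.2).symm)
        intro a _
        rw [Subgroup.normalizer_eq_top]; trivial
      have : (a : G)⁻¹ * b ∈ Subgroup.centralizer (N : Set G) ⊓ N :=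
        ⟨Subgroup.mul_mem _ (Subgroup.inv_mem _ (hLC a.2)) (hLC b.2), hmem⟩
      rw [hZ, Subgroup.mem_bot] at this
      exact Subtype.ext (inv_mul_eq_one.mp this)

end Cfsg.Agent.FGS75
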